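import Mathlib

/-!
# Lagrangian subspaces in a subset with additivity (helper232, S4979 B6)

* `exists_lagrangian` : a nondegenerate alternating form over `ZMod 2` has a self-orthogonal subspace contained in the kernel of
  a map to `±1` (given as a predicate `P`).
* `exists_pair` : two vectors independent modulo a subspace, and the dimension of the orthogonal space.
-/

set_option autoImplicit false

namespace Cfsg.Agent.H232.NX

open Module Submodule
open LinearMap (BilinForm)

variable {U : Type*} [AddCommGroup U] [Module (ZMod 2) U] [FiniteDimensional (ZMod 2) U] {B : BilinForm (ZMod 2) U}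

theorem zmod2 (c : ZMod 2) : c = 0 ∨ c = 1 := by
  revert c; decide

theorem exists_lagrangian (halt : ∀ u, B u u = 0) (hnd : B.Nondegenerate) (P : U → Prop) (h0 : P 0)
    (hadd : ∀ u v, P u → P v → P (u + v)) (hnot : ∀ u v, ¬ P u → ¬ P v → P (u + v)) :
    ∃ M : Submodule (ZMod 2) U, B.orthogonal M = M ∧ ∀ u ∈ M, P u := by
  have hA : B.IsAlt := halt
  have hr : B.IsRefl := hA.isRefl
  let S : Set (Submodule (ZMod 2) U) := {M | (∀ u ∈ M, ∀ v ∈ M, B u v = 0) ∧ ∀ u ∈ M, P u}
  have hne : S.Nonempty := by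
    refine ⟨⊥, ?_, ?_⟩
    · intro u hu v _
      rw [(Submodule.mem_bot _).1 hu, map_zero, LinearMap.zero_apply]
    · intro u hu
      rw [(Submodule.mem_bot _).1 hu]
      exact h0
  obtain ⟨M, hM, hmax⟩ := (wellFounded_gt (α := Submodule (ZMod 2) U)).has_min S hne
  refine ⟨M, ?_, hM.2⟩
  have h1 : M ≤ B.orthogonal M := fun u hu => (LinearMap.BilinForm.mem_orthogonal_iff).2 fun v hv => hM.1 v hv u hu
  refine le_antisymm ?_ h1
  intro u hu
  by_contra hun
  have hu2 : u ∉ B.orthogonal (B.orthogonal M) := by rwa [LinearMap.BilinForm.orthogonal_orthogonal hnd hr]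
  rw [LinearMap.BilinForm.mem_orthogonal_iff] at hu2
  push Not at hu2
  obtain ⟨v, hv, hvu⟩ := hu2
  change B v u ≠ 0 at hvu
  have huv : B u v ≠ 0 := fun h => hvu (hr u v h)
  -- no element of `orthogonal M` pairing non-trivially lies in `M`
  have key : ∀ x ∈ B.orthogonal M, (∃ y ∈ B.orthogonal M, B x y ≠ 0) → P x → False := by
    rintro x hx ⟨y, hy, hxy⟩ hPx
    have hxM : x ∉ M := fun h => hxy ((LinearMap.BilinForm.mem_orthogonal_iff.1 hy) x h)
    have hmem : ∀ z ∈ M ⊔ span (ZMod 2) {x}, ∃ m ∈ M, ∃ c : ZMod 2, z = m + c • x := by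
      intro z hz
      obtain ⟨m, hm, w, hw, rfl⟩ := Submodule.mem_sup.1 hz
      obtain ⟨c, rfl⟩ := Submodule.mem_span_singleton.1 hw
      exact ⟨m, hm, c, rfl⟩
    have hxm : ∀ m ∈ M, B x m = 0 := fun m hm => hr _ _ ((LinearMap.BilinForm.mem_orthogonal_iff.1 hx) m hm)
    have hmx : ∀ m ∈ M, B m x = 0 := fun m hm => (LinearMap.BilinForm.mem_orthogonal_iff.1 hx) m hm
    refine hmax (M ⊔ span (ZMod 2) {x}) ⟨?_, ?_⟩ ?_
    · intro a ha b hb
      obtain ⟨m, hm, c, rfl⟩ := hmem a ha
      obtain ⟨m', hm', c', rfl⟩ := hmem b hb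
      simp only [map_add, LinearMap.add_apply, map_smul, LinearMap.smul_apply, hM.1 m hm m' hm', hmx m hm, hxm m' hm',
        halt, smul_zero, add_zero]
    · intro a ha
      obtain ⟨m, hm, c, rfl⟩ := hmem a ha
      rcases zmod2 c with rfl | rfl
      · rw [zero_smul, add_zero]; exact hM.2 m hm
      · rw [one_smul]; exact hadd _ _ (hM.2 m hm) hPx
    · show M < M ⊔ span (ZMod 2) {x}
      refine lt_of_le_of_ne le_sup_left fun h => hxM ?_
      rw [h]
      exact Submodule.mem_sup_right (Submodule.mem_span_singleton_self x)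
  by_cases hPu : P u
  · exact key u hu ⟨v, hv, huv⟩ hPu
  · by_cases hPv : P v
    · exact key v hv ⟨u, hu, hvu⟩ hPv
    · refine key (u + v) (add_mem hu hv) ⟨v, hv, ?_⟩ (hnot u v hPu hPv)
      rw [map_add, LinearMap.add_apply, halt v, add_zero]
      exact huv

theorem finrank_sup_singleton {M : Submodule (ZMod 2) U} {x : U} (hx : x ∉ M) :
    finrank (ZMod 2) ↥(M ⊔ span (ZMod 2) {x}) = finrank (ZMod 2) M + 1 := by
  have h1 := Submodule.finrank_sup_add_finrank_inf_eq M (span (ZMod 2) {x})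
  have h2 : M ⊓ span (ZMod 2) {x} = ⊥ := by
    rw [eq_bot_iff]
    intro z hz
    obtain ⟨hz1, hz2⟩ := Submodule.mem_inf.1 hz
    obtain ⟨c, rfl⟩ := Submodule.mem_span_singleton.1 hz2
    rcases zmod2 c with rfl | rfl
    · rw [zero_smul]; exact zero_mem _
    · rw [one_smul] at hz1; exact absurd hz1 hx
  have hx0 : x ≠ 0 := fun h => hx (h ▸ zero_mem M)
  rw [h2, finrank_bot, finrank_span_singleton hx0] at h1
  omega

/-- two vectors independent modulo a self-orthogonal subspace -/
theorem exists_pair (halt : ∀ u, B u u = 0) (hnd : B.Nondegenerate) {M : Submodule (ZMod 2) U} (hM : B.orthogonal M = M)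
    {n i : ℕ} (hU : finrank (ZMod 2) U = 2 * n) (hi : i + 2 = n) : ∃ x y : U, x ∉ M ∧ y ∉ M ∧ x + y ∉ M ∧
      Nat.card {u : U // u ∈ M ∧ B u x = 0 ∧ B u y = 0} = 2 ^ i := by
  have hA : B.IsAlt := halt
  have hr : B.IsRefl := hA.isRefl
  have h1 := LinearMap.BilinForm.finrank_orthogonal hnd M
  have h2 := Submodule.finrank_le M
  rw [hM] at h1
  have h3 : finrank (ZMod 2) M = n := by omega
  obtain ⟨x, hx⟩ : ∃ x, x ∉ M := by
    by_contra hcon
    push Not at hcon
    have h4 : M = ⊤ := Submodule.eq_top_iff'.2 hcon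
    rw [h4, finrank_top] at h3
    omega
  have h5 := finrank_sup_singleton hx
  obtain ⟨y, hy⟩ : ∃ y, y ∉ M ⊔ span (ZMod 2) {x} := by
    by_contra hcon
    push Not at hcon
    have h4 : M ⊔ span (ZMod 2) {x} = ⊤ := Submodule.eq_top_iff'.2 hcon
    rw [h4, finrank_top] at h5
    omega
  have h6 := finrank_sup_singleton hy
  have hxm : x ∈ M ⊔ span (ZMod 2) {x} := Submodule.mem_sup_right (Submodule.mem_span_singleton_self x)
  refine ⟨x, y, hx, fun h => hy (Submodule.mem_sup_left h), fun h => hy ?_, ?_⟩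
  · have h7 : y = (x + y) - x := by abel
    rw [h7]
    exact sub_mem (Submodule.mem_sup_left h) hxm
  · have h8 := LinearMap.BilinForm.finrank_orthogonal hnd (M ⊔ span (ZMod 2) {x} ⊔ span (ZMod 2) {y})
    have h9 : finrank (ZMod 2) ↥(B.orthogonal (M ⊔ span (ZMod 2) {x} ⊔ span (ZMod 2) {y})) = i := by omega
    have h10 : ∀ u : U, u ∈ B.orthogonal (M ⊔ span (ZMod 2) {x} ⊔ span (ZMod 2) {y}) ↔
        (u ∈ M ∧ B u x = 0 ∧ B u y = 0) := by
      intro u
      rw [LinearMap.BilinForm.mem_orthogonal_iff]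
      constructor
      · intro h
        refine ⟨?_, ?_, ?_⟩
        · rw [← hM, LinearMap.BilinForm.mem_orthogonal_iff]
          exact fun m hm => h m (Submodule.mem_sup_left (Submodule.mem_sup_left hm))
        · exact hr _ _ (h x (Submodule.mem_sup_left hxm))
        · exact hr _ _ (h y (Submodule.mem_sup_right (Submodule.mem_span_singleton_self y)))
      · rintro ⟨hu, h1, h2⟩ z hz
        show B z u = 0
        obtain ⟨z1, hz1, z2, hz2, rfl⟩ := Submodule.mem_sup.1 hz
        obtain ⟨z3, hz3, z4, hz4, rfl⟩ := Submodule.mem_sup.1 hz1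
        obtain ⟨c, rfl⟩ := Submodule.mem_span_singleton.1 hz2
        obtain ⟨d, rfl⟩ := Submodule.mem_span_singleton.1 hz4
        rw [← hM, LinearMap.BilinForm.mem_orthogonal_iff] at hu
        have e1 : B z3 u = 0 := hu z3 hz3
        have e2 : B x u = 0 := hr _ _ h1
        have e3 : B y u = 0 := hr _ _ h2
        rw [map_add, map_add, LinearMap.add_apply, LinearMap.add_apply, map_smul, map_smul, LinearMap.smul_apply,
          LinearMap.smul_apply, e1, e2, e3, smul_zero, smul_zero, add_zero, add_zero]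
    have h11 : Nat.card ↥(B.orthogonal (M ⊔ span (ZMod 2) {x} ⊔ span (ZMod 2) {y})) = 2 ^ i := by
      rw [Module.natCard_eq_pow_finrank (K := ZMod 2), h9, Nat.card_zmod]
    rw [← h11]
    exact Nat.card_congr (Equiv.subtypeEquivRight fun u => (h10 u).symm)

end Cfsg.Agent.H232.NX
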